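import Cfsg.Agent.Omega.ML.Ex.Two

/-!
# THEOREM KL*(q) with diagonal parabolics (helper815, bb #24284): the literals

* `SysB H M T A x` : `Two.SysT` without the mover: `H` faithful and irreducible on `M`, `A` an exact low atom of order
  `≥ 4`, `T` in two maximal subgroups, `O(H) = 1`, `x ≠ 1` a `T`-fixed vector;
* `SysD H M T A x` : moreover every `T`-minimal `P` which moves `x` normalises the Sylow 2-subgroup `T ∩ O²(H)` of `O²(H)`
  (case (b) of #24284);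
* `InpD T A Z Y Lam` : the input of THEOREM KL*(q) with diagonal parabolics.
-/

set_option autoImplicit false

namespace Cfsg.Agent.Omega.KL.StarD

open Subgroup Cfsg Cfsg.Agent.ZN Cfsg.Agent.ClassTwoFusion.Quad Cfsg.Agent.Omega.ML.MinFrame
open Cfsg.Agent.MinSimple.VModule (oddGen)
open Cfsg.Agent.MinSimple.MinParabolic (IsMinPar)

universe u v

/-- `Two.SysT` without the mover -/
structure SysB (H : Type u) [Group H] (M : Type v) [Group M] [MulDistribMulAction H M] (T A : Subgroup H)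
    (x : M) : Prop where
  x1 : x ≠ 1
  tx : ∀ t ∈ T, t • x = x
  sq : ∀ m : M, m * m = 1
  faith : ∀ h : H, (∀ m : M, h • m = m) → h = 1
  irr : ∀ W : Subgroup M, (∀ h : H, ∀ w ∈ W, h • w ∈ W) → W = ⊥ ∨ W = ⊤
  two : IsPGroup 2 T
  syl : ¬ 2 ∣ T.index
  AT : A ≤ T
  el : ∀ a ∈ A, a * a = 1
  four : 4 ≤ Nat.card A
  exact : (cv M (A : Set H)).index = Nat.card A
  atom : ∀ C : Subgroup H, C ≤ A → C ≠ ⊥ → C ≠ A → Nat.card C < (cv M (C : Set H)).index
  low : ∀ R : Subgroup H, T ≤ R → R ≠ ⊤ → A ≤ o2 R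
  nmax : ¬ ∃ N : Subgroup H, N ≠ ⊤ ∧ ∀ R : Subgroup H, T ≤ R → R ≠ ⊤ → R ≤ N
  odd : ∀ N : Subgroup H, N.Normal → Odd (Nat.card N) → N = ⊥
  KH : IsKGroup H

/-- **case (b)** : the movers of `x` normalise `T ∩ O²(H)` -/
structure SysD (H : Type u) [Group H] (M : Type v) [Group M] [MulDistribMulAction H M] (T A : Subgroup H)
    (x : M) : Prop extends SysB H M T A x where
  gen : ∀ P : Subgroup H, IsMinPar T P → (∃ p ∈ P, p • x ≠ x) →
    P ≤ normalizer ((T ⊓ oddGen (⊤ : Subgroup H) : Subgroup H) : Set H)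

/-- `SysB` and a mover : `Two.SysT` -/
theorem SysB.sysT {H : Type u} [Group H] {M : Type v} [Group M] [MulDistribMulAction H M] {T A : Subgroup H}
    {x y z : M} (h : SysB H M T A z) (hm : ML.Ex.Two.Mv T x y) : ML.Ex.Two.SysT H M T A x y where
  toMv := hm
  sq := h.sq
  faith := h.faith
  irr := h.irr
  two := h.two
  syl := h.syl
  AT := h.AT
  el := h.el
  four := h.four
  exact := h.exact
  atom := h.atom
  low := h.low
  nmax := h.nmax
  odd := h.odd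
  KH := h.KH

/-- **The input of THEOREM KL*(q) with diagonal parabolics.** -/
structure InpD {H : Type u} [Group H] {M : Type v} [Group M] [MulDistribMulAction H M] (T A : Subgroup H)
    (Z Y Lam : Subgroup M) : Prop where
  sq : ∀ m : M, m * m = 1
  two : IsPGroup 2 T
  syl : ¬ 2 ∣ T.index
  tZ : ∀ z ∈ Z, ∀ t ∈ T, t • z = z
  NZ : ∀ g ∈ normalizer (T : Set H), ∀ z ∈ Z, g • z ∈ Z
  NY : ∀ g ∈ normalizer (T : Set H), ∀ w ∈ Y, g • w ∈ Y
  NL : ∀ g ∈ normalizer (T : Set H), ∀ w ∈ Lam, g • w ∈ Lam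
  LY : Lam ≤ Y
  /-- the `T`-fixed vectors of `Y` are fixed by `H` -/
  cY : ∀ w ∈ Y, (∀ t ∈ T, t • w = w) → ∀ g : H, g • w = w
  /-- a `T`-minimal `P` fixes `Z` pointwise, or its elements of odd order centralise `Y`, or `P` is diagonal: it
  normalises `Y`, its elements of odd order centralise `Lam`, and `Lam` contains all the vectors of `Y` they fix -/
  par : ∀ P : Subgroup H, IsMinPar T P → (∀ z ∈ Z, ∀ p ∈ P, p • z = z) ∨
    (∀ g ∈ P, Odd (orderOf g) → ∀ w ∈ Y, g • w = w) ∨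
    ((∀ p ∈ P, ∀ w ∈ Y, p • w ∈ Y) ∧ (∀ g ∈ P, Odd (orderOf g) → ∀ w ∈ Lam, g • w = w) ∧
      ∀ w ∈ Y, (∀ g ∈ P, Odd (orderOf g) → g • w = w) → w ∈ Lam)
  /-- `C_T(Lam)` centralises `Y / Lam` -/
  uni : ∀ t ∈ T, (∀ w ∈ Lam, t • w = w) → ∀ w ∈ Y, (t • w) * w⁻¹ ∈ Lam
  /-- the `c`-trick -/
  ctr : ∀ z ∈ Z, ∀ y ∈ Y, y ∉ Lam → (∀ t ∈ T, (t • y) * y⁻¹ ∈ Lam) → ∀ g : H, g • (z * y) = z * y → g • z = z
  el : ∀ a ∈ A, a * a = 1
  exact : (cv M (A : Set H)).index = Nat.card A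
  atom : ∀ C : Subgroup H, C ≤ A → C ≠ ⊥ → C ≠ A → Nat.card C < (cv M (C : Set H)).index
  nT : ¬ A ≤ o2 (⊤ : Subgroup H)
  AZ : A ≤ o2 (fxr H Z)
  /-- `A` centralises `Y` -/
  AY : A ≤ o2 (fxr H Y)
  KH : IsKGroup H

end Cfsg.Agent.Omega.KL.StarD
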