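import Cfsg.Agent.Omega.ML.Ex.SecQuo
import Cfsg.Agent.MinSimple.MinParabolic
import Cfsg.Agent.MinSimple.VModule

/-!
# Minimal parabolics and the passage to one component (helper831)

`Quo T K E F a` as in `SecQuo`; `T₁ := N_T(E)`, `K₁`, `T₂` : the images of `E`, `T₁` in `X₁`.

* `sup_conj_eq` : `P` `S`-minimal, `K` normal, `P ≰ N(S ∩ K)` ⟹ the `P`-conjugates of `S ∩ K` and `S` generate `P`;
* **`exists_par`** : for a `T₂`-minimal `P₁ ≰ N(T₂ ∩ K₁)` there is a `T`-minimal `P ≰ N(T ∩ K)` with `pre P₁ ∩ E ≤ P`.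
-/

set_option autoImplicit false
set_option linter.style.haveILetI false

namespace Cfsg.Agent.Omega.KL.StarD

open Subgroup Cfsg Cfsg.Agent.ZN Cfsg.Agent.Omega.ML.Ex.SecLow
open Cfsg.Agent.Omega.ML.Ex.SecLow.Quo (pre mem_pre pre_le T1_le_pre T_inf_le inf_conj)
open Cfsg.Agent.MinSimple.MinParabolic (IsMinPar le_of_forall)
open Cfsg.Agent.MinSimple.VModule (o2_isPGroup o2_le le_o2 le_normalizer_o2 o2_def)

/-- from one inclusion to the normalizer -/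
theorem mem_normalizer_of_fin {G : Type*} [Group G] [Finite G] {S : Subgroup G} {g : G}
    (h : ∀ s ∈ S, g * s * g⁻¹ ∈ S) : g ∈ normalizer (S : Set G) := by
  have h2 : S.map (MulAut.conj g).toMonoidHom = S := by
    apply Subgroup.eq_of_le_of_card_ge
    · rintro _ ⟨e, he, rfl⟩
      exact h e he
    · rw [card_map_of_injective (MulAut.conj g).injective]
  rw [mem_normalizer_iff]
  intro x
  refine ⟨h x, fun hx => ?_⟩
  have h3 : g * x * g⁻¹ ∈ S.map (MulAut.conj g).toMonoidHom := by rw [h2]; exact hx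
  obtain ⟨e, he, he2⟩ := h3
  have h4 : e = x := (MulAut.conj g).injective he2
  exact h4 ▸ he

/-- the `P`-conjugates of `U` -/
def cjs {G : Type*} [Group G] (P U : Subgroup G) : Subgroup G := closure {x | ∃ p ∈ P, ∃ u ∈ U, x = p * u * p⁻¹}

theorem cjs_mem {G : Type*} [Group G] {P U : Subgroup G} {p u : G} (hp : p ∈ P) (hu : u ∈ U) : p * u * p⁻¹ ∈ cjs P U :=
  subset_closure ⟨p, hp, u, hu, rfl⟩

theorem le_cjs {G : Type*} [Group G] {P U : Subgroup G} : U ≤ cjs P U := fun u hu => by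
  have := cjs_mem (P := P) (one_mem P) hu
  rwa [one_mul, inv_one, mul_one] at this

theorem cjs_le {G : Type*} [Group G] {P U R : Subgroup G} (h : ∀ p ∈ P, ∀ u ∈ U, p * u * p⁻¹ ∈ R) : cjs P U ≤ R := by
  unfold cjs
  rw [closure_le]
  rintro _ ⟨p, hp, u, hu, rfl⟩
  exact h p hp u hu

theorem cjs_conj {G : Type*} [Group G] {P U : Subgroup G} {p : G} (hp : p ∈ P) : ∀ x ∈ cjs P U, p * x * p⁻¹ ∈ cjs P U := by
  intro x hx
  have h1 : cjs P U ≤ (cjs P U).comap (MulAut.conj p).toMonoidHom := cjs_le fun q hq u hu => by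
    change p * (q * u * q⁻¹) * p⁻¹ ∈ cjs P U
    have e : p * (q * u * q⁻¹) * p⁻¹ = (p * q) * u * (p * q)⁻¹ := by group
    rw [e]
    exact cjs_mem (P.mul_mem hp hq) hu
  exact h1 hx

/-- **generation of a minimal parabolic** -/
theorem sup_conj_eq {G : Type*} [Group G] [Finite G] {S P K : Subgroup G} (h : IsMinPar S P) (hS : IsPGroup 2 S)
    (hSi : ¬ 2 ∣ S.index) (hK : K.Normal) (hn : ¬ P ≤ normalizer ((S ⊓ K : Subgroup G) : Set G)) :
    cjs P (S ⊓ K) ⊔ S = P := by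
  have : Fact (Nat.Prime 2) := ⟨Nat.prime_two⟩
  have hSP : ¬ 2 ∣ S.relIndex P := fun h1 => hSi (h1.trans (by
    rw [← relIndex_mul_index h.le]
    exact Dvd.intro _ rfl))
  have h1 : cjs P (S ⊓ K) ≤ P := cjs_le fun p hp u hu => P.mul_mem (P.mul_mem hp (h.le hu.1)) (P.inv_mem hp)
  have h2 : P ≤ normalizer (cjs P (S ⊓ K) : Set G) := fun p hp => mem_normalizer_of_fin (cjs_conj hp)
  rcases h.sup_eq_or_inf_le hS hSP h1 h2 with h3 | h3
  · exact h3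
  · exfalso
    apply hn
    rw [← o2_def] at h3
    have h4 : S ⊓ K ≤ o2 P := (le_inf inf_le_left le_cjs).trans h3
    have h5 : o2 P ≤ S := Cfsg.Agent.MinSimple.VModule.o2_le_of_sylow hS hSP
    have h6 : S ⊓ K = o2 P ⊓ K := le_antisymm (le_inf h4 inf_le_right) (inf_le_inf_right _ h5)
    rw [h6]
    intro p hp
    refine mem_normalizer_of_fin fun s hs => ⟨?_, hK.conj_mem s hs.2 p⟩
    exact (mem_normalizer_iff.1 (le_normalizer_o2 P hp) s).1 hs.1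

section

variable {X : Type*} [Group X] {X₁ : Type*} [Group X₁] {T K E F : Subgroup X} {a : YY T E →* X₁}

/-- an element of `R`, `T₂ ≤ R`, is `a e · a t` with `a e ∈ R` -/
theorem exists_in (h : Quo T K E F a) {R : Subgroup X₁} (hR : im a (T1 T E) ≤ R) {x : X₁} (hx : x ∈ R) :
    ∃ e t : YY T E, (e : X) ∈ pre a R ⊓ E ∧ (t : X) ∈ T1 T E ∧ x = a e * a t := by
  obtain ⟨e, t, he, ht, rfl⟩ := h.exists_mul' x
  refine ⟨e, t, ⟨mem_pre.2 ?_, he⟩, ht, rfl⟩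
  have := R.mul_mem hx (R.inv_mem (hR (apply_mem_im ht)))
  rwa [mul_inv_cancel_right] at this

/-- `T₁` normalises `C ≤ E` : an element `a c₁ · t₂` of `E` -/
theorem mem_of_sup (h : Quo T K E F a) [Finite X] {C : Subgroup X} (hC : C ≤ E) (hTC : T ⊓ E ≤ C)
    (hc : ∀ t ∈ T1 T E, ∀ x ∈ C, t * x * t⁻¹ ∈ C) {e : YY T E} (he : (e : X) ∈ E)
    (h1 : a e ∈ im a C ⊔ im a (T1 T E)) : (e : X) ∈ C := by
  haveI : Finite X₁ := Finite.of_surjective a h.surj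
  have h2 : im a (T1 T E) ≤ normalizer (im a C : Set X₁) := by
    rintro _ ⟨t, ht, rfl⟩
    refine mem_normalizer_of_fin ?_
    rintro _ ⟨c, hc', rfl⟩
    exact ⟨t * c * t⁻¹, hc t ht c hc', by rw [map_mul, map_mul, map_inv]⟩
  have h0 : a e ∈ ((im a C ⊔ im a (T1 T E) : Subgroup X₁) : Set X₁) := h1
  rw [coe_mul_of_right_le_normalizer_left _ _ h2] at h0
  obtain ⟨_, ⟨c, hc', rfl⟩, t, ht, h3⟩ := h0
  have h4 : a (c⁻¹ * e) ∈ im a (T1 T E) := by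
    rw [map_mul, map_inv, ← h3, inv_mul_cancel_left]
    exact ht
  have h5 := h.mem_T_of (e := c⁻¹ * e) (E.mul_mem (E.inv_mem (hC hc')) he) h4
  have h6 : (c : X) * ((c⁻¹ * e : YY T E) : X) ∈ C := C.mul_mem hc' (hTC h5)
  have h7 : (c : X) * ((c⁻¹ * e : YY T E) : X) = e := by
    change (c : X) * ((c : X)⁻¹ * e) = e
    group
  rwa [h7] at h6

/-- **a `T`-minimal parabolic over a `T₂`-minimal one** -/
theorem exists_par (h : Quo T K E F a) [Finite X] (hF : ∀ y : YY T E, (y : X) ∈ F → a y ∈ im a (T1 T E))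
    {P₁ : Subgroup X₁} (hP : IsMinPar (im a (T1 T E)) P₁)
    (hn : ¬ P₁ ≤ normalizer ((im a (T1 T E) ⊓ im a E : Subgroup X₁) : Set X₁)) :
    ∃ P : Subgroup X, IsMinPar T P ∧ pre a P₁ ⊓ E ≤ P ∧ ¬ P ≤ normalizer ((T ⊓ K : Subgroup X) : Set X) := by
  haveI : Finite X₁ := Finite.of_surjective a h.surj
  obtain ⟨M₁, hM, hmax⟩ := hP.exists_max
  have hTM : im a (T1 T E) ≤ M₁ := hmax _ le_rfl (lt_of_le_of_ne hP.le hP.ne)
  have hA : pre a P₁ ⊓ E ≤ E := inf_le_right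
  have hTA : T ⊓ E ≤ pre a P₁ ⊓ E := T_inf_le hP.le
  have hAc := inf_conj (a := a) hP.le
  have hB : pre a M₁ ⊓ E ≤ E := inf_le_right
  have hTB : T ⊓ E ≤ pre a M₁ ⊓ E := T_inf_le hTM
  have hBc := inf_conj (a := a) hTM
  -- `A ≰ B`
  have hAB : ¬ pre a P₁ ⊓ E ≤ pre a M₁ ⊓ E := by
    intro h1
    apply hM.not_ge
    intro x hx
    obtain ⟨e, t, he, ht, rfl⟩ := exists_in h hP.le hx
    exact M₁.mul_mem (mem_pre.1 (h1 he).1) (hTM (apply_mem_im ht))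
  -- `N_{P₁}(T₂) ≤ M₁`
  have hNM : P₁ ⊓ normalizer (im a (T1 T E) : Set X₁) ≤ M₁ :=
    hmax _ (le_inf hP.le le_normalizer) (lt_of_le_of_ne inf_le_left fun h1 => hP.not_le (inf_eq_left.1 h1))
  -- the elements of `hat A` which normalise `T`
  have hnor : ∀ k ∈ h.hat (pre a P₁ ⊓ E) hA, (∀ t ∈ T, k * t * k⁻¹ ∈ T) → k ∈ h.AF (pre a M₁ ⊓ E) hB := by
    intro k hk hkT
    obtain ⟨e, he, f, hf, hkef⟩ := h.hat_le_AF hA hk
    refine ⟨e, ?_, f, hf, hkef⟩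
    have heE : e ∈ E := he.2
    -- `a e` normalises `T₂`
    have h1 : a ⟨e, E_le_YY heE⟩ ∈ normalizer (im a (T1 T E) : Set X₁) := by
      refine mem_normalizer_of_fin ?_
      rintro _ ⟨t, ht, rfl⟩
      have ht' : (t : X) ∈ T1 T E := ht
      -- `t' := k t k⁻¹ ∈ T₁`
      have h2 : k * t * k⁻¹ ∈ T1 T E := by
        refine h.mem_T1 (hkT _ ht'.1) fun e' he' => ?_
        have hkE : ∀ x ∈ E, k * x * k⁻¹ ∈ E := by
          intro x hx
          rw [hkef]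
          have e1 : e * f * x * (e * f)⁻¹ = e * x * e⁻¹ := by
            calc e * f * x * (e * f)⁻¹ = e * (f * x) * f⁻¹ * e⁻¹ := by group
              _ = e * (x * f) * f⁻¹ * e⁻¹ := by rw [h.cEF x hx f hf]
              _ = _ := by group
          rw [e1]
          exact E.mul_mem (E.mul_mem heE hx) (E.inv_mem heE)
        have hkE' : ∀ x ∈ E, k⁻¹ * x * k ∈ E := by
          intro x hx
          have h3 := (mem_normalizer_iff.1 (inv_mem (mem_normalizer_of_fin hkE)) x).1 hx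
          rwa [inv_inv] at h3
        have e1 : k * t * k⁻¹ * e' * (k * t * k⁻¹)⁻¹ = k * (t * (k⁻¹ * e' * k) * (t : X)⁻¹) * k⁻¹ := by group
        rw [e1]
        exact hkE _ (T1_conj ht' (hkE' _ he'))
      -- `y := [f, t]⁻¹ ∈ F`
      have h3 : e * t * e⁻¹ * (k * t * k⁻¹)⁻¹ ∈ F := by
        have e1 : e * t * e⁻¹ * (k * t * k⁻¹)⁻¹ = t * f * (t : X)⁻¹ * f⁻¹ := by
          have hff : t * f * (t : X)⁻¹ ∈ F := h.F_conj ht' hf
          have h4 : e * (t * f * (t : X)⁻¹ * f⁻¹) = (t * f * (t : X)⁻¹ * f⁻¹) * e :=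
            h.cEF e heE _ (F.mul_mem hff (F.inv_mem hf))
          rw [hkef]
          calc e * t * e⁻¹ * (e * f * t * (e * f)⁻¹)⁻¹ = e * (t * f * (t : X)⁻¹ * f⁻¹) * e⁻¹ := by group
            _ = t * f * (t : X)⁻¹ * f⁻¹ := by rw [h4]; group
        rw [e1]
        exact F.mul_mem (h.F_conj ht' hf) (F.inv_mem hf)
      have h4 := hF (⟨e, E_le_YY heE⟩ * t * (⟨e, E_le_YY heE⟩ : YY T E)⁻¹ * (⟨_, T1_le_YY h2⟩ : YY T E)⁻¹) h3
      have h5 : a ⟨_, T1_le_YY h2⟩ ∈ im a (T1 T E) := apply_mem_im h2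
      have h6 := (im a (T1 T E)).mul_mem h4 h5
      rw [← map_mul, inv_mul_cancel_right, map_mul, map_mul, map_inv] at h6
      exact h6
    have h2 : a ⟨e, E_le_YY heE⟩ ∈ P₁ := mem_pre.1 he.1
    exact ⟨(mem_pre (y := ⟨e, E_le_YY heE⟩)).2 (hNM ⟨h2, h1⟩), heE⟩
  -- the two subgroups over `T`
  have hTR : T ≤ h.hat (pre a P₁ ⊓ E) hA ⊔ T := le_sup_right
  have hRY : ¬ h.hat (pre a P₁ ⊓ E) hA ⊔ T ≤ h.hat (pre a M₁ ⊓ E) hB ⊔ T := by
    intro h1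
    apply hAB
    intro e he
    have h2 := h1 (mem_sup_left (h.le_hat hA hAc he))
    exact h.mem_of_AF hB (h.hat_le_AF hB (h.sup_inf hB hTB h2 (h.EK (hA he)))) (hA he)
  have hsplit : ∀ x ∈ h.hat (pre a P₁ ⊓ E) hA ⊔ T, ∃ k ∈ h.hat (pre a P₁ ⊓ E) hA, ∃ t ∈ T, x = k * t := by
    intro x hx
    have hKn := h.Kn
    obtain ⟨k, hk, t, ht, rfl⟩ := mem_sup_of_normal_left.1 (h.gen ▸ mem_top x : x ∈ K ⊔ T)
    refine ⟨k, ?_, t, ht, rfl⟩
    refine h.sup_inf hA hTA ?_ hk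
    have := (h.hat (pre a P₁ ⊓ E) hA ⊔ T).mul_mem hx (hTR (T.inv_mem ht))
    rwa [mul_inv_cancel_right] at this
  have hN : (h.hat (pre a P₁ ⊓ E) hA ⊔ T) ⊓ normalizer (T : Set X) ≤ h.hat (pre a M₁ ⊓ E) hB ⊔ T := by
    rintro x ⟨hx, hxn⟩
    obtain ⟨k, hk, t, ht, rfl⟩ := hsplit x hx
    refine mul_mem (mem_sup_left ?_) (mem_sup_right ht)
    have hkn : k ∈ normalizer (T : Set X) := by
      have := (normalizer (T : Set X)).mul_mem hxn (inv_mem (le_normalizer ht))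
      rwa [mul_inv_cancel_right] at this
    intro s hs
    refine hnor _ (h.hat_conj hA hs hk) fun t' ht' => ?_
    have h1 : s * k * s⁻¹ ∈ normalizer (T : Set X) := mul_mem (mul_mem (le_normalizer hs) hkn) (inv_mem (le_normalizer hs))
    exact (mem_normalizer_iff.1 h1 t').1 ht'
  -- a `T`-minimal `P ≤ R` with `P ≰ Y`
  obtain ⟨P, hPm, hPR, hPY⟩ : ∃ P : Subgroup X, IsMinPar T P ∧ P ≤ h.hat (pre a P₁ ⊓ E) hA ⊔ T ∧
      ¬ P ≤ h.hat (pre a M₁ ⊓ E) hB ⊔ T := by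
    by_contra h1
    push Not at h1
    exact hRY (le_of_forall hTR hN fun P hP hPX => h1 P hP hPX)
  -- the projection of `P`
  have hpA : h.pr P ≤ pre a P₁ ⊓ E := by
    rintro e ⟨he, f, hf, hef⟩
    obtain ⟨e', he', f', hf', h1⟩ := h.hat_le_AF hA (h.sup_inf hA hTA (hPR hef) (K.mul_mem (h.EK he) (h.FK hf)))
    have h2 : e'⁻¹ * e = f' * f⁻¹ := by
      rw [inv_mul_eq_iff_eq_mul, ← mul_assoc, ← h1, mul_inv_cancel_right]
    have h3 := h.iEF (e'⁻¹ * e) (E.mul_mem (E.inv_mem (hA he')) he) (h2 ▸ F.mul_mem hf' (F.inv_mem hf))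
    rw [inv_mul_eq_one] at h3
    exact h3 ▸ he'
  have hTp : T ⊓ E ≤ h.pr P := (inf_le_inf_right E hPm.le).trans (h.inf_le_pr P)
  have hpc := h.pr_conj hPm.le
  have hL : im a (h.pr P) ⊔ im a (T1 T E) = P₁ := by
    by_contra hne
    have h1 : im a (h.pr P) ⊔ im a (T1 T E) ≤ P₁ := by
      refine sup_le ?_ hP.le
      rintro _ ⟨e, he, rfl⟩
      exact mem_pre.1 (hpA he).1
    have h2 := hmax _ le_sup_right (lt_of_le_of_ne h1 hne)
    apply hPY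
    intro x hx
    obtain ⟨k, hk, t, ht, rfl⟩ := hsplit x (hPR hx)
    refine mul_mem (mem_sup_left ?_) (mem_sup_right ht)
    refine h.inf_le_hat hPm.le hB ?_ ⟨?_, h.AF_le hA (h.hat_le_AF hA hk)⟩
    · intro e he
      have heE := h.pr_le_E P he
      exact ⟨(mem_pre (y := ⟨e, E_le_YY heE⟩)).2 (h2 (mem_sup_left (apply_mem_im (y := ⟨e, E_le_YY heE⟩) he))), heE⟩
    · have := P.mul_mem hx (P.inv_mem (hPm.le ht))
      rwa [mul_inv_cancel_right] at this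
  have hAp : pre a P₁ ⊓ E ≤ h.pr P := by
    intro e he
    refine mem_of_sup h (h.pr_le_E P) hTp hpc (e := ⟨e, E_le_YY he.2⟩) he.2 ?_
    rw [hL]
    exact mem_pre.1 he.1
  -- the conjugates
  have hconj : ∀ b ∈ pre a P₁ ⊓ E, ∀ u ∈ T ⊓ E, b * u * b⁻¹ ∈ P := by
    intro b hb u hu
    obtain ⟨hbE, f, hf, hbf⟩ := hAp hb
    have e1 : b * u * b⁻¹ = (b * f) * u * (b * f)⁻¹ := by
      calc b * u * b⁻¹ = b * (u * f) * f⁻¹ * b⁻¹ := by group
        _ = b * (f * u) * f⁻¹ * b⁻¹ := by rw [h.cEF u hu.2 f hf]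
        _ = _ := by group
    rw [e1]
    exact P.mul_mem (P.mul_mem hbf (hPm.le hu.1)) (P.inv_mem hbf)
  have hCE : cjs (pre a P₁ ⊓ E) (T ⊓ E) ≤ E := cjs_le fun b hb u hu => E.mul_mem (E.mul_mem hb.2 hu.2) (E.inv_mem hb.2)
  have hCP : cjs (pre a P₁ ⊓ E) (T ⊓ E) ≤ P := cjs_le hconj
  have hTt : ∀ t ∈ T1 T E, ∀ u ∈ T ⊓ E, t * u * t⁻¹ ∈ T ⊓ E := fun t ht u hu =>
    ⟨T.mul_mem (T.mul_mem ht.1 hu.1) (T.inv_mem ht.1), T1_conj ht hu.2⟩
  have hCc : ∀ t ∈ T1 T E, ∀ x ∈ cjs (pre a P₁ ⊓ E) (T ⊓ E), t * x * t⁻¹ ∈ cjs (pre a P₁ ⊓ E) (T ⊓ E) := by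
    intro t ht x hx
    have h1 : cjs (pre a P₁ ⊓ E) (T ⊓ E) ≤ (cjs (pre a P₁ ⊓ E) (T ⊓ E)).comap (MulAut.conj t).toMonoidHom :=
      cjs_le fun b hb u hu => by
        change t * (b * u * b⁻¹) * t⁻¹ ∈ cjs (pre a P₁ ⊓ E) (T ⊓ E)
        have e1 : t * (b * u * b⁻¹) * t⁻¹ = (t * b * t⁻¹) * (t * u * t⁻¹) * (t * b * t⁻¹)⁻¹ := by group
        rw [e1]
        exact cjs_mem (hAc t ht b hb) (hTt t ht u hu)
    exact h1 hx
  have hAC : pre a P₁ ⊓ E ≤ cjs (pre a P₁ ⊓ E) (T ⊓ E) := by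
    intro e he
    refine mem_of_sup h hCE le_cjs hCc (e := ⟨e, E_le_YY he.2⟩) he.2 ?_
    have h1 : a ⟨e, E_le_YY he.2⟩ ∈ cjs P₁ (im a (T1 T E) ⊓ im a E) ⊔ im a (T1 T E) :=
      (sup_conj_eq hP h.two₁ h.syl₁ h.normal hn).ge (mem_pre.1 he.1)
    refine sup_le_sup_right (cjs_le ?_) _ h1
    rintro p hp _ ⟨⟨t', ht', hu⟩, ⟨u, hu', rfl⟩⟩
    -- `u ∈ T ∩ E`
    have h2 : (u : X) ∈ T ⊓ E := h.mem_T_of hu' ⟨t', ht', hu⟩
    obtain ⟨b, t, hb, ht, rfl⟩ := exists_in h hP.le hp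
    have h3 : a b * a t * a u * (a b * a t)⁻¹ = a (b * (t * u * t⁻¹) * b⁻¹) := by
      simp only [map_mul, map_inv]
      group
    rw [h3]
    exact apply_mem_im (cjs_mem hb (hTt t ht u h2))
  refine ⟨P, hPm, hAC.trans hCP, fun h1 => hn ?_⟩
  -- `A` normalises `T ∩ E`
  intro p hp
  refine mem_normalizer_of_fin ?_
  rintro _ ⟨⟨t', ht', hu⟩, ⟨u, hu', rfl⟩⟩
  have h2 : (u : X) ∈ T ⊓ E := h.mem_T_of hu' ⟨t', ht', hu⟩
  obtain ⟨b, t, hb, ht, rfl⟩ := exists_in h hP.le hp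
  have h3 : a b * a t * a u * (a b * a t)⁻¹ = a (b * (t * u * t⁻¹) * b⁻¹) := by
    simp only [map_mul, map_inv]
    group
  have h4 := hTt t ht u h2
  have h5 := (mem_normalizer_iff.1 (h1 (hCP (hAC hb))) _).1 ⟨h4.1, h.EK h4.2⟩
  rw [h3]
  refine ⟨apply_mem_im (L := T1 T E) ⟨h5.1, le_normalizer ?_⟩, apply_mem_im (L := E) ?_⟩ <;>
  exact E.mul_mem (E.mul_mem hb.2 h4.2) (E.inv_mem hb.2)

end

end Cfsg.Agent.Omega.KL.StarD
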