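import Cfsg.Agent.Omega.KL.StarD.Def
import Cfsg.Agent.Omega.KL.StarD.Sec
import Cfsg.Agent.Omega.KL.LieGenU
import Cfsg.Agent.Omega.ML.Ex.RedT
import Cfsg.Agent.Omega.ML.Ex.KnownDone

/-!
# THEOREM KL*(q) with diagonal parabolics, case (b) (#24284 (b), #24617 (B); helper831)

* `SysB.mn` : the input of RED;
* `oddGen_top` : `O²(X) = K`;
* `CmpM.gen_sec` : in the section `X₁` of one component every `T₂`-minimal `P₁` which moves `x₁` normalises `T₂ ∩ K₁`;
* **`SysD.false_of`** : case (b) does not occur.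
-/

set_option autoImplicit false
set_option linter.style.haveILetI false

namespace Cfsg.Agent.Omega.KL.StarD

open Subgroup Cfsg Cfsg.Agent.ZN Cfsg.Agent.Omega.NOThree.NoOver Cfsg.Agent.Omega.ML.CD
open Cfsg.Agent.ClassTwoFusion.Quad Cfsg.Agent.Omega.ML.MinFrame Cfsg.Agent.Omega.ML.Ex Cfsg.Agent.Omega.ML.Ex.SecLow
open Cfsg.Agent.Omega.ML.Ex.Red
open Cfsg.Agent.Omega.ML.Ex.SecLow.Quo (pre mem_pre)
open Cfsg.Agent.MinSimple.MinParabolic (IsMinPar)
open Cfsg.Agent.MinSimple.VModule (oddGen mem_oddGen oddGen_def normalizer_le_normalizer_oddGen)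

universe u v

section

variable {X : Type u} [Group X] {M : Type v} [Group M] [MulDistribMulAction X M] {T B K E : Subgroup X} {lam : M}

/-- the input of RED -/
theorem SysB.mn {x : M} (h : SysB X M T B x) : Mn T B x where
  sq := h.sq
  faith := h.faith
  gen := by
    rcases h.irr (orb (⊤ : Subgroup X) x) (fun g w hw => smul_mem_orb (mem_top g) hw) with h1 | h1
    · have h2 := mem_orb_self (⊤ : Subgroup X) x
      rw [h1, mem_bot] at h2
      exact absurd h2 h.x1
    · exact h1
  fixT := h.tx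
  odd := h.odd
  two := h.two
  syl := h.syl
  el := h.el
  four := h.four
  exact := h.exact
  atom := h.atom
  low := h.low
  nmax := h.nmax

/-- `O²(X) = K` -/
theorem oddGen_top [Finite X] (h : CmpM T B K E lam) : oddGen (⊤ : Subgroup X) = K := by
  have hKn := h.cmp.normK
  have hON : (oddGen (⊤ : Subgroup X)).Normal := by
    rw [← normalizer_eq_top_iff, eq_top_iff]
    have h1 := normalizer_le_normalizer_oddGen (⊤ : Subgroup X)
    rwa [normalizer_eq_top] at h1
  apply le_antisymm
  · -- the elements of odd order are in `K`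
    rw [oddGen_def, closure_le]
    rintro x ⟨-, hx⟩
    have h1 : IsPGroup 2 (X ⧸ K) := by
      have h2 : (⊤ : Subgroup (X ⧸ K)) = T.map (QuotientGroup.mk' K) := by
        have h3 := congrArg (Subgroup.map (QuotientGroup.mk' K)) h.cmp.gen
        rw [Subgroup.map_sup, QuotientGroup.map_mk'_self, bot_sup_eq, ← MonoidHom.range_eq_map,
          MonoidHom.range_eq_top.2 (QuotientGroup.mk'_surjective K)] at h3
        exact h3.symm
      intro y
      obtain ⟨k, hk⟩ := (h.cmp.mn.two.map (QuotientGroup.mk' K)) ⟨y, h2 ▸ mem_top y⟩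
      exact ⟨k, congrArg Subtype.val hk⟩
    obtain ⟨k, hk⟩ := h1 (QuotientGroup.mk x)
    have h3 : (QuotientGroup.mk x : X ⧸ K) = 1 := by
      have h4 : orderOf (QuotientGroup.mk x : X ⧸ K) ∣ 2 ^ k := orderOf_dvd_of_pow_eq_one hk
      have h5 : orderOf (QuotientGroup.mk x : X ⧸ K) ∣ orderOf x := orderOf_map_dvd (QuotientGroup.mk' K) x
      have h6 : Nat.Coprime (2 ^ k) (orderOf x) := Nat.Coprime.pow_left _ (Nat.coprime_two_left.2 hx)
      exact orderOf_eq_one_iff.1 (Nat.eq_one_of_dvd_coprimes h6 h4 h5)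
    exact (QuotientGroup.eq_one_iff x).1 h3
  · -- `E ≤ O²(X)`
    have hs := h.cmp.simple
    have hE : E ≤ oddGen (⊤ : Subgroup X) := by
      have h1 : ((oddGen (⊤ : Subgroup X)).subgroupOf E).Normal := hON.subgroupOf E
      rcases h1.eq_bot_or_eq_top with h2 | h2
      · exfalso
        -- `E` is a 2-group
        have h3 : IsPGroup 2 E := by
          have : Fact (Nat.Prime 2) := ⟨Nat.prime_two⟩
          rw [IsPGroup.iff_card]
          by_contra h4
          push Not at h4
          obtain ⟨p, hp, hp2, hpd⟩ : ∃ p : ℕ, p.Prime ∧ p ≠ 2 ∧ p ∣ Nat.card E := by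
            by_contra h5
            push Not at h5
            refine h4 (Nat.card E).primeFactorsList.length ?_
            exact Nat.eq_prime_pow_of_unique_prime_dvd Nat.card_pos.ne' fun {q} hq hqd => by
              by_contra h6
              exact h5 q hq h6 hqd
          have : Fact p.Prime := ⟨hp⟩
          obtain ⟨y, hy⟩ := exists_prime_orderOf_dvd_card' (G := E) p hpd
          have h5 : (y : X) ∈ oddGen (⊤ : Subgroup X) := by
            refine mem_oddGen (mem_top _) ?_
            rw [orderOf_coe, hy]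
            exact hp.odd_of_ne_two hp2
          have h6 : y ∈ (oddGen (⊤ : Subgroup X)).subgroupOf E := h5
          rw [h2, mem_bot] at h6
          rw [h6, orderOf_one] at hy
          exact hp.one_lt.ne hy
        have h4 := comm_of_two hs h3
        obtain ⟨y, hy⟩ := exists_ne (1 : E)
        exact hy (Subtype.ext (h.cmp.eq_one_of_comm y.2 fun f hf => (mem_centralizer_iff.1 (h4 y.2) f hf).symm))
      · rwa [subgroupOf_eq_top] at h2
    exact h.cmp.K_le fun t _ e he => hON.conj_mem e (hE he) t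

variable {X₁ : Type u} [Group X₁] [MulDistribMulAction X₁ (cm M E)] {a : YY T E →* X₁}

/-- **the movers of `x₁` in the section of one component** -/
theorem gen_sec [Finite X] (h : Sc T B K E lam a)
    {x : M} (gen : ∀ P : Subgroup X, IsMinPar T P → (∃ p ∈ P, p • x ≠ x) →
      P ≤ normalizer ((T ⊓ K : Subgroup X) : Set X)) {n c : M} (hn : n ∈ cm M E) (hc : c ∈ cv M (E : Set X))
    (hx : x = n * c) (hnT : ∀ t ∈ T, t ∈ normalizer (E : Set X) → t • n = n)
    {P₁ : Subgroup X₁} (hP : IsMinPar (im a (T1 T E)) P₁)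
    (hmv : ∃ p ∈ P₁, p • (⟨n, hn⟩ : cm M E) ≠ ⟨n, hn⟩) :
    P₁ ≤ normalizer ((im a (T1 T E) ⊓ im a E : Subgroup X₁) : Set X₁) := by
  by_contra hno
  have hq := h.quo
  obtain ⟨P, hPm, hAP, hPn⟩ := exists_par hq (fun y hy => by
    have h1 : a y ∈ centralizer (im a E : Set X₁) := by
      rw [mem_centralizer_iff]
      rintro _ ⟨e, he, rfl⟩
      rw [← map_mul, ← map_mul]
      exact congrArg a (Subtype.ext (mem_centralizer_iff.1 hy.2 e he))
    rw [h.cen, mem_bot] at h1
    rw [h1]
    exact one_mem _) hP hno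
  -- `P` fixes `x`
  have hPx : ∀ p ∈ P, p • x = x := by
    by_contra h1
    push Not at h1
    exact hPn (gen P hPm h1)
  -- so `A` fixes `n`
  have hAn : ∀ b ∈ pre a P₁ ⊓ E, b • n = n := by
    intro b hb
    have h1 := hPx b (hAP hb)
    rw [hx, smul_mul', hc b hb.2] at h1
    exact mul_right_cancel h1
  obtain ⟨p, hp, hpn⟩ := hmv
  apply hpn
  obtain ⟨e, t, he, ht, rfl⟩ := exists_in hq hP.le hp
  apply Subtype.ext
  rw [← map_mul, h.act]
  change ((e : X) * t) • n = n
  rw [mul_smul, hnT t ht.1 ht.2, hAn e he]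

end

variable {H : Type u} [Group H] [Finite H] {M : Type v} [Group M] [Finite M] [MulDistribMulAction H M]
  {T A : Subgroup H} {x : M}

/-- **case (b) does not occur** -/
theorem SysD.false_of (hM : ML.Final.MLK.{u, v}) (h2 : Two.ExitN.{u, v}) (h : SysD H M T A x) : False := by
  obtain ⟨K, E, hC⟩ := h.toSysB.mn.exists_cmpM hM h.KH
  letI := hC.qact
  have hs := hC.sc
  have hI := hs.inX h.irr
  have hK := h2 _ _ _ _ _ (InN.of_inX hI hs.atm) (hs.known h.KH)
  obtain ⟨n, hn, c, hc, hxn, hn1, hnT⟩ := hC.exists_part h.irr h.tx h.x1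
  have hgen : ∀ P : Subgroup H, IsMinPar T P → (∃ p ∈ P, p • x ≠ x) →
      P ≤ normalizer ((T ⊓ K : Subgroup H) : Set H) := fun P hP hm => by
    have h3 := h.gen P hP hm
    rwa [oddGen_top hC] at h3
  refine LieGen.false_of_inX (x := ⟨n, hn⟩) hI hK (fun h3 => hn1 (congrArg Subtype.val h3)) ?_
    fun P hP hm => gen_sec hs hgen hn hc hxn hnT hP hm
  rintro _ ⟨t, ht, rfl⟩
  apply Subtype.ext
  rw [hs.act]
  exact hnT t ht.1 ht.2

/-- closed over (ML) -/
theorem SysD.false (hM : ML.Final.MLK.{u, v}) (h : SysD H M T A x) : False :=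
  h.false_of hM KnownDone.exitN

end Cfsg.Agent.Omega.KL.StarD
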