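import Cfsg.Agent.Omega.KL.StarD.Main
import Cfsg.Agent.Omega.KL.StarD.Lie
import Cfsg.Agent.Omega.ML.Ex.Ext

/-!
# THEOREM KL*(q) with diagonal parabolics (helper815, bb #24284), closed

* **`InpD.false`** : `InpD T A Z Y Lam` is impossible; inputs `KnownAll.mlk`, `Two.ext` (helper585) and `SysD.false`
  (helper831, helper233).
-/

set_option autoImplicit false

namespace Cfsg.Agent.Omega.KL.StarD

universe u v

/-- **THEOREM KL*(q) with diagonal parabolics.** -/
theorem InpD.false {H : Type u} [Group H] [Finite H] {M : Type v} [Group M] [Finite M] [MulDistribMulAction H M]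
    {T A : Subgroup H} {Z Y Lam : Subgroup M} (i : InpD T A Z Y Lam) : False :=
  i.false_of ML.KnownAll.mlk ML.Ex.Two.ext fun _ _ _ _ _ _ _ _ _ _ h => h.false ML.KnownAll.mlk

end Cfsg.Agent.Omega.KL.StarD
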