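import Cfsg.Agent.Omega.KL.StarD.Def
import Cfsg.Agent.Omega.KL.StarQ.Main

/-!
# LEMMA ZC' (helper815, bb #24284): `O(H') = 1` without the second vector

* `com_odd` : `A` centralises every odd normal subgroup, from `nmax` and `low`;
* `bot_of_fix` : a normal subgroup with a fixed vector is trivial;
* `eq_one_of_odd_act` : a subgroup `ZZ ≥ C_H(U)`, `ZZ / C_H(U)` of odd order, with `U = [U, ZZ]` fixes no vector of `U`;
* **`odd_bot`** : `O(H') = 1`.
-/

set_option autoImplicit false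

namespace Cfsg.Agent.Omega.KL.StarD

open Subgroup Cfsg Cfsg.Agent.ZN Cfsg.Agent.ClassTwoFusion.Quad
open Cfsg.Agent.Omega.ML.MinFrame hiding comm_of_sq
open Cfsg.Agent.Omega.ML.Final Cfsg.Agent.Omega.NO3S.EMany.Low
open Cfsg.Agent.Omega.KL.Star.Core
open Cfsg.Agent.MinSimple.VModule (o2_isPGroup o2_le le_o2 le_normalizer_o2 o2_le_of_sylow oddGen oddGen_le oddGen_def
  mem_oddGen)
open Cfsg.Agent.MinSimple.MinParabolic (IsMinPar le_of_forall)

universe u v

section one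

variable {H : Type u} [Group H] {M : Type v} [Group M] [MulDistribMulAction H M]
  {T A : Subgroup H}

/-- a normal subgroup which fixes a non-trivial vector is trivial -/
theorem bot_of_fix (faith : ∀ h : H, (∀ m : M, h • m = m) → h = 1)
    (irr : ∀ W : Subgroup M, (∀ h : H, ∀ w ∈ W, h • w ∈ W) → W = ⊥ ∨ W = ⊤) {N : Subgroup H} (hN : N.Normal) {m : M}
    (hm : m ≠ 1) (hf : ∀ n ∈ N, n • m = m) : N = ⊥ := by
  have h1 : cv M (N : Set H) = ⊤ := by
    refine (irr _ ?_).resolve_left ?_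
    · intro g w hw n hn
      have h2 := hw (g⁻¹ * n * g) (by simpa using hN.conj_mem n hn g⁻¹)
      rwa [mul_smul, mul_smul, inv_smul_eq_iff] at h2
    · intro h2
      have h3 : m ∈ cv M (N : Set H) := fun n hn => hf n hn
      rw [h2, mem_bot] at h3
      exact hm h3
  rw [eq_bot_iff]
  intro n hn
  exact mem_bot.2 (faith n fun w => (h1 ▸ mem_top w : w ∈ cv M (N : Set H)) n hn)

/-- `A` centralises the odd normal subgroups -/
theorem com_odd [Finite H] (hT : IsPGroup 2 T) (low : ∀ R : Subgroup H, T ≤ R → R ≠ ⊤ → A ≤ o2 R)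
    (nmax : ¬ ∃ N : Subgroup H, N ≠ ⊤ ∧ ∀ R : Subgroup H, T ≤ R → R ≠ ⊤ → R ≤ N) {K : Subgroup H} (hK : K.Normal)
    (hKo : Odd (Nat.card K)) : ∀ k ∈ K, ∀ a ∈ A, k * a = a * k := by
  -- the elements of `K` which commute with all the `T`-conjugates of `A`
  let KA : Subgroup H := K ⊓ centralizer {x : H | ∃ t ∈ T, ∃ a ∈ A, x = t * a * t⁻¹}
  have hTn : T ≤ normalizer (KA : Set H) := by
    have h0 : ∀ s ∈ T, ∀ k ∈ KA, s * k * s⁻¹ ∈ KA := by
      intro s hs k hk
      refine ⟨hK.conj_mem k hk.1 s, mem_centralizer_iff.2 ?_⟩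
      rintro _ ⟨t, ht, a, ha, rfl⟩
      have h1 := (mem_centralizer_iff.1 hk.2) (s⁻¹ * t * a * (s⁻¹ * t)⁻¹) ⟨s⁻¹ * t, mul_mem (inv_mem hs) ht, a, ha, rfl⟩
      have e1 : t * a * t⁻¹ * (s * k * s⁻¹) = s * ((s⁻¹ * t * a * (s⁻¹ * t)⁻¹) * k) * s⁻¹ := by group
      have e2 : s * k * s⁻¹ * (t * a * t⁻¹) = s * (k * (s⁻¹ * t * a * (s⁻¹ * t)⁻¹)) * s⁻¹ := by group
      rw [e1, e2, h1]
    intro s hs
    rw [mem_normalizer_iff]
    intro k
    refine ⟨h0 s hs k, fun hk => ?_⟩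
    have h1 := h0 s⁻¹ (inv_mem hs) _ hk
    have e : s⁻¹ * (s * k * s⁻¹) * s⁻¹⁻¹ = k := by group
    rwa [e] at h1
  have hRle : ∀ R : Subgroup H, T ≤ R → R ≠ ⊤ → K ⊓ R ≤ KA := by
    intro R hTR hR k hk
    refine ⟨hk.1, mem_centralizer_iff.2 ?_⟩
    rintro _ ⟨t, ht, a, ha, rfl⟩
    have h1 : t * a * t⁻¹ ∈ o2 R := (mem_normalizer_iff.1 (le_normalizer_o2 R (hTR ht)) a).1 (low R hTR hR ha)
    exact (comm_odd hK hKo hk.1 hk.2 h1).symm
  have hKA : K ≤ KA := by
    by_cases h1 : K ⊔ T = ⊤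
    · by_contra hne
      apply nmax
      refine ⟨KA ⊔ T, fun h2 => hne fun k hk => ?_, fun R hTR hR r hr => ?_⟩
      · have h3 : k ∈ KA ⊔ T := h2 ▸ mem_top k
        rw [← SetLike.mem_coe, coe_mul_of_right_le_normalizer_left KA T hTn] at h3
        obtain ⟨c, hc, t, ht, rfl⟩ := h3
        change c * t ∈ K at hk
        have h5 : t = 1 := by
          refine eq_one_of_odd hKo hT ?_ ht
          have h6 := mul_mem (inv_mem (show c ∈ K from hc.1)) hk
          rwa [inv_mul_cancel_left] at h6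
        change c * t ∈ KA
        rw [h5, mul_one]
        exact hc
      · have h3 : r ∈ K ⊔ T := h1 ▸ mem_top r
        obtain ⟨c, hc, t, ht, rfl⟩ := mem_sup_of_normal_left.1 h3
        refine mul_mem (le_sup_left (a := KA) (hRle R hTR hR ⟨hc, ?_⟩)) (le_sup_right (a := KA) ht)
        have h4 := mul_mem hr (inv_mem (hTR ht))
        rwa [mul_inv_cancel_right] at h4
    · exact (le_inf le_rfl le_sup_left).trans (hRle _ le_sup_right h1)
  intro k hk a ha
  have h1 := (mem_centralizer_iff.1 (hKA hk).2) a ⟨1, one_mem _, a, ha, by group⟩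
  exact h1.symm

/-- `U = [U, ZZ]`, `ZZ` of odd order on `U`: no fixed vectors -/
theorem eq_one_of_act {H' : Type*} [Group H'] [Finite H'] (sq : ∀ m : M, m * m = 1) (π : H →* H')
    (hπ : Function.Surjective π) {K : Subgroup H'} (hKo : Odd (Nat.card K)) {U : Subgroup M}
    (hker : ∀ k : H, π k = 1 → ∀ m ∈ U, k • m = m)
    (hU : U ≤ closure {v | ∃ k : H, π k ∈ K ∧ ∃ m ∈ U, v = (k • m) * m⁻¹}) {w : M} (hw : w ∈ U)
    (hf : ∀ k : H, π k ∈ K → k • w = w) : w = 1 := by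
  classical
  let _ : CommGroup M := { (inferInstance : Group M) with mul_comm := comm_of_sq sq }
  have := Fintype.ofFinite K
  choose s hs using hπ
  let ν : M →* M :=
    { toFun := fun m => ∏ j : K, s (j : H') • m
      map_one' := by simp
      map_mul' := fun a b => by
        rw [← Finset.prod_mul_distrib]
        exact Finset.prod_congr rfl fun j _ => smul_mul' _ _ _ }
  have hν : ∀ m : M, ν m = ∏ j : K, s (j : H') • m := fun _ => rfl
  have h1 : ∀ k : H, π k ∈ K → ∀ m ∈ U, ν (k • m) = ν m := by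
    intro k hk m hm
    rw [hν, hν]
    refine Fintype.prod_equiv (Equiv.mulRight (⟨π k, hk⟩ : K)) _ _ fun j => ?_
    change s (j : H') • k • m = s ((j : H') * π k) • m
    have h2 : π ((s ((j : H') * π k))⁻¹ * (s (j : H') * k)) = 1 := by
      rw [map_mul, map_inv, hs, map_mul, hs, inv_mul_cancel]
    have h3 := hker _ h2 m hm
    rw [mul_smul, inv_smul_eq_iff, mul_smul] at h3
    exact h3
  have h2 : U ≤ ν.ker := by
    refine hU.trans ?_
    rw [closure_le]
    rintro _ ⟨k, hk, m, hm, rfl⟩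
    change ν _ = 1
    rw [map_mul, map_inv, h1 k hk m hm, mul_inv_cancel]
  have h3 : ν w = 1 := h2 hw
  have h4 : ν w = w ^ Nat.card K := by
    rw [hν, Finset.prod_congr rfl fun (j : K) _ => hf (s (j : H')) (by rw [hs]; exact j.2), Finset.prod_const,
      Finset.card_univ, Nat.card_eq_fintype_card]
  rw [h4] at h3
  obtain ⟨n, hn⟩ := hKo
  rw [hn, pow_succ, pow_mul, pow_two, sq, one_pow, one_mul] at h3
  exact h3

/-- an element of odd order of `K T`, `K` normal, lies in `K` -/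
theorem mem_of_odd' {K T : Subgroup H} [hK : K.Normal] (hT : IsPGroup 2 T) {g : H} (h1 : g ∈ K ⊔ T)
    (hg : Odd (orderOf g)) : g ∈ K := by
  obtain ⟨k, hk, t, ht, rfl⟩ := mem_sup_of_normal_left.1 h1
  obtain ⟨n, hn⟩ := hT ⟨t, ht⟩
  have hn' : t ^ 2 ^ n = 1 := congrArg Subtype.val hn
  have h2 : (QuotientGroup.mk (k * t) : H ⧸ K) ^ 2 ^ n = 1 := by
    rw [QuotientGroup.mk_mul, (QuotientGroup.eq_one_iff k).2 hk, one_mul, ← QuotientGroup.mk_pow, hn',
      QuotientGroup.mk_one]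
  have h3 : orderOf (QuotientGroup.mk (k * t) : H ⧸ K) ∣ 2 ^ n := orderOf_dvd_of_pow_eq_one h2
  have h4 : orderOf (QuotientGroup.mk (k * t) : H ⧸ K) ∣ orderOf (k * t) :=
    orderOf_map_dvd (QuotientGroup.mk' K) (k * t)
  have h5 : (2 ^ n).Coprime (orderOf (k * t)) := Nat.Coprime.pow_left n (Nat.coprime_two_left.mpr hg)
  have h6 : orderOf (QuotientGroup.mk (k * t) : H ⧸ K) = 1 := Nat.eq_one_of_dvd_coprimes h5 h3 h4
  exact (QuotientGroup.eq_one_iff (k * t)).1 (orderOf_eq_one_iff.1 h6)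

end one

section two

variable {H : Type u} [Group H] [Finite H] {M : Type v} [Group M] [Finite M] [MulDistribMulAction H M]
  {T A : Subgroup H} {H' : Type u} [Group H'] [Finite H'] {N : Type v} [Group N] [Finite N] [MulDistribMulAction H' N]
  {π : H →* H'} {f : ↥(cmm M A) →* N} {A' : Subgroup H'}

omit [Finite H'] [Finite N] in
/-- the kernel of `π` is trivial on `U¹` -/
theorem ker_fix (h : LB H M T A) (hM : MLK.{u, v}) (o : Out H M T A H' N π f A') {x1 : M} (hx1 : x1 ∈ cmm M A)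
    (tx1 : ∀ t ∈ T, t • x1 = x1) (mx1 : ¬ ∀ g : H, g • x1 = x1) : ∀ k : H, π k = 1 → ∀ m ∈ cmm M A, k • m = m := by
  have hkx' : ∀ k ∈ π.ker ⊔ T, k • x1 = x1 := by
    refine h.fix_of_mod tx1 le_sup_right (I := cv M (Km A : Set H))
      (fun w hw tw g _ => h.fix_of_cvKm tw hw g) fun k hk => ?_
    have h1 : π k • f ⟨x1, hx1⟩ = f ⟨x1, hx1⟩ := by
      obtain ⟨k1, hk1, s, hs', rfl⟩ := mem_sup_of_normal_left.1 hk
      rw [map_mul, (MonoidHom.mem_ker).1 hk1, one_mul, ← o.eqv s ⟨x1, hx1⟩]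
      exact congrArg f (Subtype.ext (tx1 s hs'))
    rw [← o.eqv k ⟨x1, hx1⟩, ← mul_inv_eq_one, ← map_inv, ← map_mul, o.ker] at h1
    exact h1
  intro k hk w hw
  have h1 : k ∈ fxr H (orb (⊤ : Subgroup H) x1) := by
    rw [mem_fxr_orb]
    intro s _
    have h2 := hkx' (s⁻¹ * k * s) (mem_sup_left (by
      have := (inferInstance : (π.ker).Normal).conj_mem k hk s⁻¹
      rwa [inv_inv] at this))
    rwa [mul_smul, mul_smul, inv_smul_eq_iff] at h2
  exact h1 w (h.cmm_le hM tx1 mx1 hw)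

/-- **LEMMA ZC'** -/
theorem odd_bot (h : LB H M T A) (hM : MLK.{u, v}) (o : Out H M T A H' N π f A') {x1 : M} (hx1 : x1 ∈ cmm M A)
    (tx1 : ∀ t ∈ T, t • x1 = x1) (mx1 : ¬ ∀ g : H, g • x1 = x1)
    (nmax : ¬ ∃ N : Subgroup H', N ≠ ⊤ ∧ ∀ R : Subgroup H', T.map π ≤ R → R ≠ ⊤ → R ≤ N)
    {Y : Subgroup M} (NY : ∀ g ∈ normalizer (T : Set H), ∀ w ∈ Y, g • w ∈ Y)
    (cY : ∀ w ∈ Y, (∀ t ∈ T, t • w = w) → ∀ g : H, g • w = w)
    (par : ∀ P : Subgroup H, IsMinPar T P → (∀ p ∈ P, p • x1 = x1) ∨ ∀ p ∈ P, ∀ w ∈ Y, p • w ∈ Y)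
    {u' : N} (u1 : u' ≠ 1) (su : ∀ g : H, Odd (orderOf g) → (∀ w ∈ Y, g • w = w) → π g • u' = u')
    {K : Subgroup H'} (hK : K.Normal) (hKo : Odd (Nat.card K)) : K = ⊥ := by
  by_contra hne
  have hT2 : IsPGroup 2 (T.map π) := o.lb.two
  have hcom := com_odd hT2 o.lb.low nmax hK hKo
  have hKm : Km A' ≤ centralizer (K : Set H') :=
    Km_le inferInstance fun a ha => mem_centralizer_iff.2 fun k hk => hcom k hk a ha
  have hfx : f ⟨x1, hx1⟩ ≠ 1 := by
    rw [Ne, o.ker]
    exact fun hc => mx1 fun g => h.fix_of_cvKm tx1 hc g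
  -- a `T'`-invariant subgroup of `K` is normal
  have hnor : ∀ F : Subgroup H', F ≤ K → (∀ t ∈ T.map π, ∀ k ∈ F, t * k * t⁻¹ ∈ F) → F.Normal := by
    intro F hFK hF
    refine ⟨fun k hk g => ?_⟩
    have h1 : g ∈ Km A' ⊔ T.map π := o.lb.gen ▸ mem_top g
    obtain ⟨c, hc, t, ht, rfl⟩ := mem_sup_of_normal_left.1 h1
    have h2 := hF t ht k hk
    have h3 := (mem_centralizer_iff.1 (hKm hc)) _ (hFK h2)
    have e : c * t * k * (c * t)⁻¹ = c * (t * k * t⁻¹) * c⁻¹ := by group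
    rw [e, ← h3, mul_inv_cancel_right]
    exact h2
  -- the good element
  obtain ⟨g, hgo, hgY, w, hw, hgw⟩ : ∃ g : H, Odd (orderOf g) ∧ (∀ w ∈ Y, g • w ∈ Y) ∧ ∃ w ∈ Y, g • w ≠ w := by
    by_cases hα : ∃ P : Subgroup H, IsMinPar T P ∧ P ≤ (K ⊔ T.map π).comap π ∧ ∃ g ∈ P, Odd (orderOf g) ∧ π g ≠ 1
    · obtain ⟨P, hP, hPR, g0, hg0, hg0o, hg01⟩ := hα
      set F : Subgroup H' := (oddGen P).map π with hF
      have hFK : F ≤ K := by
        rw [hF, map_le_iff_le_comap, oddGen_def, closure_le]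
        rintro g ⟨hgP, hgo⟩
        exact mem_of_odd' hT2 (hPR hgP) (hgo.of_dvd_nat (orderOf_map_dvd π g))
      have hFn : F.Normal := by
        refine hnor F hFK ?_
        rintro _ ⟨t, ht, rfl⟩ _ ⟨k, hk, rfl⟩
        rw [← map_mul, ← map_inv, ← map_mul]
        exact ⟨_, (mem_normalizer_iff.1 (MinSimple.VModule.le_normalizer_oddGen P (hP.le ht)) k).1 hk, rfl⟩
      have hF1 : F ≠ ⊥ := by
        intro h1
        apply hg01
        have h2 : π g0 ∈ F := ⟨g0, mem_oddGen hg0 hg0o, rfl⟩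
        rw [h1] at h2
        exact mem_bot.1 h2
      have hnf : ∀ n : N, n ≠ 1 → ¬ ∀ k ∈ F, k • n = n := fun n hn hc =>
        hF1 (bot_of_fix o.faith o.irr hFn hn hc)
      have hPY : ∀ p ∈ P, ∀ w ∈ Y, p • w ∈ Y := by
        refine (par P hP).resolve_left fun hc => hnf _ hfx ?_
        rintro _ ⟨k, hk, rfl⟩
        rw [← o.eqv k ⟨x1, hx1⟩]
        exact congrArg f (Subtype.ext (hc k (oddGen_le P hk)))
      by_contra hc
      push Not at hc
      refine hnf u' u1 ?_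
      rintro _ ⟨k, hk, rfl⟩
      have h1 : oddGen P ≤ (MulAction.stabilizer H' u').comap π := by
        rw [oddGen_def, closure_le]
        rintro g ⟨hgP, hgo⟩
        exact su g hgo fun w hw => hc g hgo (fun w hw => hPY g hgP w hw) w hw
      exact h1 hk
    · push Not at hα
      have hR : (K ⊔ T.map π).comap π ≤ (normalizer ((T.map π : Subgroup H') : Set H')).comap π := by
        refine le_of_forall (S := T) ((le_comap_map π T).trans (comap_mono le_sup_right)) ?_ ?_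
        · rintro n ⟨-, hn'⟩
          rw [mem_comap, mem_normalizer_iff]
          have hn := mem_normalizer_iff.1 hn'
          intro s
          have hmp : ∀ n : H, (∀ t, t ∈ T → n * t * n⁻¹ ∈ T) → ∀ s ∈ T.map π, π n * s * (π n)⁻¹ ∈ T.map π := by
            rintro n hn _ ⟨t, ht, rfl⟩
            rw [← map_inv, ← map_mul, ← map_mul]
            exact ⟨_, hn t ht, rfl⟩
          refine ⟨hmp n (fun t ht => (hn t).1 ht) s, fun hs => ?_⟩
          have h1 := hmp n⁻¹ (fun t ht => by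
            rw [hn]
            have e : n * (n⁻¹ * t * n⁻¹⁻¹) * n⁻¹ = t := by group
            rwa [e]) _ hs
          rw [map_inv] at h1
          have e : (π n)⁻¹ * (π n * s * (π n)⁻¹) * (π n)⁻¹⁻¹ = s := by group
          rwa [e] at h1
        · intro P hP hPR
          have h3 : oddGen P ⊔ T = P := oddGen_sup hP.le
            fun h2 => h.syl (h2.trans (relIndex_dvd_index_of_le hP.le))
          rw [← h3]
          refine sup_le ?_ fun t ht => le_normalizer (show π t ∈ T.map π from ⟨t, ht, rfl⟩)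
          rw [oddGen_def, closure_le]
          rintro g ⟨hgP, hgo⟩
          rw [SetLike.mem_coe, mem_comap, hα P hP hPR g hgP hgo]
          exact one_mem _
      have hKT : ∀ k ∈ K, ∀ t ∈ T.map π, k * t = t * k := by
        intro k hk t ht
        obtain ⟨g, rfl⟩ := o.πs k
        have h1 : π g ∈ normalizer ((T.map π : Subgroup H') : Set H') := hR (show π g ∈ K ⊔ T.map π from mem_sup_left hk)
        have h2 : π g * t * (π g)⁻¹ * t⁻¹ = 1 := by
          refine eq_one_of_odd hKo hT2 ?_ (mul_mem ((mem_normalizer_iff.1 h1 t).1 ht) (inv_mem ht))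
          have h3 := mul_mem hk (hK.conj_mem _ (inv_mem hk) t)
          have e : π g * (t * (π g)⁻¹ * t⁻¹) = π g * t * (π g)⁻¹ * t⁻¹ := by group
          rwa [e] at h3
        have h4 : π g * t = (π g * t * (π g)⁻¹ * t⁻¹) * (t * π g) := by group
        rw [h4, h2, one_mul]
      have hcen : ∀ k ∈ K, ∀ g : H', g * k = k * g := by
        intro k hk g
        have h1 : g ∈ Km A' ⊔ T.map π := o.lb.gen ▸ mem_top g
        obtain ⟨c, hc, t, ht, rfl⟩ := mem_sup_of_normal_left.1 h1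
        have h3 := (mem_centralizer_iff.1 (hKm hc)) k hk
        rw [mul_assoc, ← hKT k hk t ht, ← mul_assoc, ← h3, mul_assoc]
      obtain ⟨⟨ν, hν⟩, hν1'⟩ := (Subgroup.ne_bot_iff_exists_ne_one).1 hne
      have hν1 : ν ≠ 1 := fun h1 => hν1' (Subtype.ext h1)
      have hνc : ∀ g : H', g * ν = ν * g := hcen ν hν
      have hνT : ν ∈ normalizer ((T.map π : Subgroup H') : Set H') := by
        rw [mem_normalizer_iff]
        intro g
        rw [← hνc g, mul_inv_cancel_right]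
      obtain ⟨_, ⟨t, ht, rfl⟩, n, hn, hνn⟩ := KL.GenTool.exists_normalizer_map π o.πs h.two h.syl hνT
      obtain ⟨a, ha1, ha2⟩ := StarQ.exists_pow h.two ht n
      set g : H := n ^ 2 ^ a with hg
      have hgN : g ∈ normalizer (T : Set H) := (normalizer (T : Set H)).pow_mem hn _
      have hπg : π g = ν ^ 2 ^ a := by
        have h1 : Commute (π t) ν := hνc _
        have h2 : π n = (π t)⁻¹ * ν := by rw [hνn]; group
        have h3 : Commute (π t)⁻¹ ν := h1.inv_left
        rw [hg, map_pow, h2, h3.mul_pow, inv_pow, ← map_pow, ha1, map_one, inv_one, one_mul]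
      have hπg1 : π g ≠ 1 := by
        rw [hπg]
        intro h1
        apply hν1
        have h2 : orderOf ν ∣ 2 ^ a := orderOf_dvd_of_pow_eq_one h1
        have h3 : orderOf ν ∣ Nat.card K := by
          have := orderOf_dvd_natCard (⟨ν, hν⟩ : K)
          rwa [orderOf_mk] at this
        have h4 : Odd (orderOf ν) := hKo.of_dvd_nat h3
        have h5 : (2 ^ a).Coprime (orderOf ν) := Nat.Coprime.pow_left a (Nat.coprime_two_left.mpr h4)
        exact orderOf_eq_one_iff.1 (Nat.eq_one_of_dvd_coprimes h5 h2 dvd_rfl)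
      refine ⟨g, ha2, fun w hw => NY g hgN w hw, ?_⟩
      by_contra hc
      push Not at hc
      have hfix := su g ha2 hc
      have hπK : zpowers (π g) ≤ K := by
        rw [zpowers_le, hπg]
        exact K.pow_mem hν _
      have h1 := bot_of_fix o.faith o.irr (hnor _ hπK fun t ht k hk => by
        rw [hcen k (hπK hk) t, mul_inv_cancel_right]
        exact hk) u1 (fun k hk => by
        have h2 : zpowers (π g) ≤ MulAction.stabilizer H' u' := by
          rw [zpowers_le]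
          exact hfix
        exact h2 hk)
      exact hπg1 (by
        have h2 := mem_zpowers (π g)
        rw [h1] at h2
        exact mem_bot.1 h2)
  -- a fixed vector in `Y ∩ U¹`
  have TY : ∀ t ∈ T, ∀ w ∈ Y, t • w ∈ Y := fun t ht => NY t (le_normalizer ht)
  have hgK : g ∈ Km A := mem_of_odd h.two h.gen hgo
  have hW1 : Y ⊓ cmm M A ≠ ⊥ := by
    intro h1
    have h2 : (g • w) * w⁻¹ ∈ Y ⊓ cmm M A := mem_inf.2 ⟨Y.mul_mem (hgY w hw) (Y.inv_mem hw), mem_cmm hgK w⟩
    rw [h1, mem_bot, mul_inv_eq_one] at h2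
    exact hgw h2
  obtain ⟨w1, ⟨hw1Y, hw1U⟩, hw11, tw1⟩ := exists_fix h.sq h.two (W := Y ⊓ cmm M A)
    (fun t ht v hv => ⟨TY t ht v hv.1, smul_mem_cmm t hv.2⟩) hW1
  have hw1f := cY w1 hw1Y tw1
  -- `U¹ = [U¹, K]`
  have hker := ker_fix h hM o hx1 tx1 mx1
  set D : Subgroup M := closure {v | ∃ k : H, π k ∈ K ∧ ∃ m ∈ cmm M A, v = (k • m) * m⁻¹} with hD
  have hDi : ∀ g : H, ∀ u ∈ D, g • u ∈ D := by
    intro g
    have h1 : D ≤ D.comap (MulDistribMulAction.toMonoidHom M g) := by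
      rw [hD, closure_le]
      rintro _ ⟨k, hk, m, hm, rfl⟩
      change g • ((k • m) * m⁻¹) ∈ Subgroup.closure _
      refine subset_closure ⟨g * k * g⁻¹, ?_, g • m, smul_mem_cmm g hm, ?_⟩
      · rw [map_mul, map_mul, map_inv]
        exact hK.conj_mem _ hk _
      · rw [smul_mul', smul_inv', mul_smul, mul_smul, inv_smul_smul]
    exact fun u hu => h1 hu
  have hxD : x1 ∈ D := by
    by_contra hxD
    have h1 := h.irr hM tx1 mx1 hx1 hDi hxD
    apply hne
    rw [eq_bot_iff]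
    intro k hk
    obtain ⟨g, rfl⟩ := o.πs k
    rw [mem_bot]
    refine o.faith _ fun n => ?_
    obtain ⟨⟨m, hm⟩, rfl⟩ := o.fs n
    have h2 : (g • m) * m⁻¹ ∈ cv M (Km A : Set H) := h1 (subset_closure ⟨g, hk, m, hm, rfl⟩)
    rw [← o.eqv g ⟨m, hm⟩, ← mul_inv_eq_one, ← map_inv, ← map_mul, o.ker]
    exact h2
  exact hw11 (eq_one_of_act h.sq π o.πs hKo hker
    ((h.cmm_le hM tx1 mx1).trans (orb_le fun g _ => hDi g x1 hxD)) hw1U fun k _ => hw1f k)

end two

end Cfsg.Agent.Omega.KL.StarD
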